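import Mathlib
import Cfsg.Agent.H703.Lat.Basic

/-!
# The lattice lemma modulo `p`: the number of characters of degree prime to `p`

`S p B` : the members of `B` of degree prime to `p`.  For `p` odd dividing `|G|`,
* `three_le` : `3 ≤ |S p B|`;
* `N_eq` : if `|S p B| = 3` then `∑ ⟨x χ(1)⟩² = p x` for `1 ≤ x ≤ (p - 1) / 2`.
-/

set_option autoImplicit false
set_option linter.unusedSectionVars false

open Cfsg Finset
open scoped ComplexConjugate

namespace Cfsg.Agent.H703.Lat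

open Cfsg.Agent.Characters.Core Cfsg.Agent.Blocks Cfsg.Agent.Blocks.Basic Cfsg.Agent.Blocks.LocalRing

universe u

variable {G : Type u} [Group G] [Finite G] {p : ℕ} [hp : Fact p.Prime]

/-- the principal character -/
def one (G : Type u) [Group G] : IrrCharacter G := ⟨fun _ => 1, isIrrCharacter_one⟩

theorem charDegree_one : charDegree (one G : G → ℂ) = 1 := by
  rw [charDegree_of_eq (n := 1)]
  show (1 : ℂ) = ((1 : ℕ) : ℂ)
  simp

/-- the least absolute residue of `x χ(1)` modulo `p` -/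
noncomputable def cx (p : ℕ) (x : ℕ) (χ : IrrCharacter G) : ℤ :=
  (((charDegree (χ : G → ℂ) : ℕ) : ZMod p) * (x : ZMod p)).valMinAbs

theorem inv_cx (p x : ℕ) : Inv (cx (G := G) p x) :=
  inv_deg fun d => (((d : ℕ) : ZMod p) * (x : ZMod p)).valMinAbs

theorem cx_of_dvd {x : ℕ} {χ : IrrCharacter G} (h : p ∣ charDegree (χ : G → ℂ)) : cx p x χ = 0 := by
  rw [cx, (ZMod.natCast_eq_zero_iff _ _).2 h, zero_mul, ZMod.valMinAbs_zero]

theorem cx_one {x : ℕ} (hx : x ≤ p / 2) : cx p x (one G) = x := by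
  rw [cx, charDegree_one, Nat.cast_one, one_mul, ZMod.valMinAbs_natCast_of_le_half hx]

theorem dvd_cx (x : ℕ) (χ : IrrCharacter G) :
    ((p ^ 1 : ℕ) : ℤ) ∣ cx p x χ - x * charDegree (χ : G → ℂ) := by
  rw [pow_one, ← ZMod.intCast_zmod_eq_zero_iff_dvd]
  push_cast
  rw [cx, ZMod.coe_valMinAbs, mul_comm, sub_self]

theorem sum_cx {χ : IrrCharacter G} (h : ¬ p ∣ charDegree (χ : G → ℂ)) :
    ∑ x ∈ Ico 1 (p / 2).succ, cx p x χ ^ 2 = ∑ x ∈ Ico 1 (p / 2).succ, (x : ℤ) ^ 2 := by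
  have h1 := ZMod.Ico_map_valMinAbs_natAbs_eq_Ico_map_id p ((charDegree (χ : G → ℂ) : ℕ) : ZMod p)
    (fun h' => h ((ZMod.natCast_eq_zero_iff _ _).1 h'))
  have h2 := congrArg (fun m : Multiset ℕ => (m.map fun n : ℕ => (n : ℤ) ^ 2).sum) h1
  simp only [Multiset.map_map, Function.comp_def] at h2
  have h3 : ∀ x : ℕ, (((((charDegree (χ : G → ℂ) : ℕ) : ZMod p) * (x : ZMod p)).valMinAbs.natAbs : ℤ)) ^ 2 =
      cx p x χ ^ 2 := fun x => by rw [Int.natAbs_sq]; rfl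
  simp only [h3] at h2
  exact h2

/-- The members of `B` of degree prime to `p`. -/
noncomputable def S (p : ℕ) (B : Finset (IrrCharacter G)) : Finset (IrrCharacter G) :=
  B.filter fun χ => ¬ p ∣ charDegree (χ : G → ℂ)

theorem mem_S {B : Finset (IrrCharacter G)} {χ : IrrCharacter G} :
    χ ∈ S p B ↔ χ ∈ B ∧ ¬ p ∣ charDegree (χ : G → ℂ) := mem_filter

variable {M : Ideal AlgInt} {B : Finset (IrrCharacter G)}

theorem one_mem_S (h1B : one G ∈ B) : one G ∈ S p B :=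
  mem_S.2 ⟨h1B, by rw [charDegree_one]; exact hp.1.one_lt.ne' ∘ Nat.dvd_one.1⟩

theorem sum_S (x : ℕ) : ∑ χ ∈ B, cx p x χ ^ 2 = ∑ χ ∈ S p B, cx p x χ ^ 2 := by
  rw [S, sum_filter_of_ne]
  intro χ _ h h'
  exact h (by rw [cx_of_dvd h', sq, mul_zero])

/-- the functions `F_x` -/
theorem exists_Fx (hM : IsPModular p M) (hB : Good M B) (hpG : p ∣ Nat.card G) (x : ℕ) :
    ∃ F : G → ℤ, ∀ g, ∑ χ ∈ B, (cx p x χ : ℂ) * (χ : G → ℂ) g = (p : ℂ) * F g := by
  have := exists_F hM hB (a := 1) (by rwa [pow_one]) (inv_cx p x) (m := x) (fun χ _ => dvd_cx x χ)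
  simpa only [pow_one] using this

theorem le_N (hM : IsPModular p M) (hB : Good M B) (hpG : p ∣ Nat.card G) (h1B : one G ∈ B) {x : ℕ}
    (hx : x ∈ Ico 1 (p / 2).succ) : (p : ℤ) * x ≤ ∑ χ ∈ S p B, cx p x χ ^ 2 := by
  obtain ⟨F, hF⟩ := exists_Fx hM hB hpG x
  have h1 := lattice hp.1.ne_zero h1B hF
  rw [sum_S] at h1
  have h2 : cx p x (⟨fun _ => 1, isIrrCharacter_one⟩ : IrrCharacter G) = x :=
    cx_one (by have := mem_Ico.1 hx; omega)
  rw [h2, abs_of_nonneg (Int.natCast_nonneg x)] at h1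
  exact h1

theorem sum_N : ∑ x ∈ Ico 1 (p / 2).succ, ∑ χ ∈ S p B, cx p x χ ^ 2 =
    (S p B).card * ∑ x ∈ Ico 1 (p / 2).succ, (x : ℤ) ^ 2 := by
  rw [sum_comm, sum_congr rfl fun χ hχ => sum_cx (mem_S.1 hχ).2, sum_const, nsmul_eq_mul]

theorem two_sum (n : ℕ) : 2 * ∑ x ∈ Ico 1 n.succ, (x : ℤ) = n * (n + 1) := by
  induction n with
  | zero => simp
  | succ n ih =>
    have h : ∑ x ∈ Ico 1 (n + 1).succ, (x : ℤ) = ∑ x ∈ Ico 1 n.succ, (x : ℤ) + ((n + 1 : ℕ) : ℤ) :=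
      sum_Ico_succ_top (by omega) _
    rw [h, mul_add, ih]
    push_cast
    ring

theorem three_sum (n : ℕ) : 3 * ∑ x ∈ Ico 1 n.succ, (x : ℤ) ^ 2 = (2 * n + 1) * ∑ x ∈ Ico 1 n.succ, (x : ℤ) := by
  induction n with
  | zero => simp
  | succ n ih =>
    have h : ∑ x ∈ Ico 1 (n + 1).succ, (x : ℤ) = ∑ x ∈ Ico 1 n.succ, (x : ℤ) + ((n + 1 : ℕ) : ℤ) :=
      sum_Ico_succ_top (by omega) _
    have h' : ∑ x ∈ Ico 1 (n + 1).succ, (x : ℤ) ^ 2 = ∑ x ∈ Ico 1 n.succ, (x : ℤ) ^ 2 + ((n + 1 : ℕ) : ℤ) ^ 2 :=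
      sum_Ico_succ_top (by omega) _
    have := two_sum n
    rw [h, h', mul_add, ih]
    push_cast at this ⊢
    linarith

theorem half (hp2 : p ≠ 2) : 2 * (p / 2) + 1 = p := by
  have := hp.1.eq_one_or_self_of_dvd 2
  omega

theorem pos_sum (hp2 : p ≠ 2) : 0 < ∑ x ∈ Ico 1 (p / 2).succ, (x : ℤ) ^ 2 := by
  have h2 := hp.1.two_le
  have h3 := half hp2
  refine sum_pos (fun x hx => ?_) ⟨1, mem_Ico.2 ⟨le_rfl, by omega⟩⟩
  have h4 : 0 < x := by have := mem_Ico.1 hx; omega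
  positivity

/-- There are at least three characters of degree prime to `p`. -/
theorem three_le (hM : IsPModular p M) (hB : Good M B) (hpG : p ∣ Nat.card G) (h1B : one G ∈ B)
    (hp2 : p ≠ 2) : 3 ≤ (S p B).card := by
  have h1 := sum_le_sum (s := Ico 1 (p / 2).succ) fun x hx => le_N hM hB hpG h1B hx
  rw [sum_N, ← mul_sum] at h1
  have h2 := three_sum (p / 2)
  have h3 := half (p := p) hp2
  have h4 : (2 * ((p / 2 : ℕ) : ℤ) + 1) = p := by exact_mod_cast h3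
  rw [h4] at h2
  rw [← h2] at h1
  have h5 := le_of_mul_le_mul_right h1 (pos_sum hp2)
  exact_mod_cast h5

/-- The case of equality. -/
theorem N_eq (hM : IsPModular p M) (hB : Good M B) (hpG : p ∣ Nat.card G) (h1B : one G ∈ B)
    (hp2 : p ≠ 2) (h3S : (S p B).card = 3) {x : ℕ} (hx : x ∈ Ico 1 (p / 2).succ) :
    ∑ χ ∈ S p B, cx p x χ ^ 2 = p * x := by
  have h1 := sum_N (p := p) (B := B)
  have h2 := three_sum (p / 2)
  have h3 := half (p := p) hp2
  have h4 : (2 * ((p / 2 : ℕ) : ℤ) + 1) = p := by exact_mod_cast h3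
  rw [h4] at h2
  rw [h3S, Nat.cast_ofNat, h2, mul_sum] at h1
  exact ((sum_eq_sum_iff_of_le fun x hx => le_N hM hB hpG h1B hx).1 h1.symm x hx).symm

/-- three characters of degree prime to `p` force `p = 3` -/
theorem eq_three (hM : IsPModular p M) (hB : Good M B) (hpG : p ∣ Nat.card G) (h1B : one G ∈ B)
    (hp2 : p ≠ 2) (h3S : (S p B).card = 3) : p = 3 := by
  classical
  by_contra hp3
  have h3 := half (p := p) hp2
  have hp5 : 5 ≤ p := by
    have := hp.1.two_le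
    have : p ≠ 4 := fun h => by have := hp.1; rw [h] at this; revert this; decide
    omega
  set n := p / 2 with hn
  have hn2 : 2 ≤ n := by omega
  obtain ⟨a, b, hab, hSab⟩ : ∃ a b, a ≠ b ∧ (S p B).erase (one G) = {a, b} := card_eq_two.1 (by
    rw [card_erase_of_mem (one_mem_S h1B), h3S])
  have hsum : ∀ x : ℕ, ∑ χ ∈ S p B, cx p x χ ^ 2 = cx p x (one G) ^ 2 + (cx p x a ^ 2 + cx p x b ^ 2) := by
    intro x
    rw [← add_sum_erase _ _ (one_mem_S h1B), hSab, sum_pair hab]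
  have hN : ∀ x ∈ Ico 1 n.succ, (x : ℤ) ^ 2 + (cx p x a ^ 2 + cx p x b ^ 2) = p * x := by
    intro x hx
    rw [← N_eq hM hB hpG h1B hp2 h3S hx, hsum, cx_one]
    have := mem_Ico.1 hx
    omega
  have haS : a ∈ S p B := mem_of_mem_erase (by rw [hSab]; simp : a ∈ (S p B).erase (one G))
  have hbS : b ∈ S p B := mem_of_mem_erase (by rw [hSab]; simp : b ∈ (S p B).erase (one G))
  -- the least absolute residues
  have key : ∀ c ∈ S p B, ∃ u : ℕ, 1 ≤ u ∧ u ≤ n ∧ cx p 1 c ^ 2 = (u : ℤ) ^ 2 ∧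
      ((2 * u ≤ n ∧ cx p 2 c ^ 2 = (2 * u : ℤ) ^ 2) ∨ (n < 2 * u ∧ cx p 2 c ^ 2 = (p - 2 * u : ℤ) ^ 2)) := by
    intro c hc
    have hc' := (mem_S.1 hc).2
    set z : ZMod p := ((charDegree (c : G → ℂ) : ℕ) : ZMod p) with hz
    have hz0 : z ≠ 0 := fun h' => hc' ((ZMod.natCast_eq_zero_iff _ _).1 h')
    have hcx1 : cx p 1 c = z.valMinAbs := by rw [cx, ← hz, Nat.cast_one, mul_one]
    have hcx2 : cx p 2 c = (z * 2).valMinAbs := by rw [cx, ← hz, Nat.cast_ofNat]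
    refine ⟨z.valMinAbs.natAbs, ?_, ZMod.natAbs_valMinAbs_le z, by rw [hcx1, Int.natAbs_sq], ?_⟩
    · rw [Nat.one_le_iff_ne_zero, Ne, Int.natAbs_eq_zero, ZMod.valMinAbs_eq_zero]
      exact hz0
    have hcoe : ((z.valMinAbs : ℤ) : ZMod p) = z := ZMod.coe_valMinAbs z
    have hle := ZMod.natAbs_valMinAbs_le z
    rw [← hn] at hle
    have hu := Int.natAbs_sq z.valMinAbs
    set v := z.valMinAbs with hv
    rcases le_or_gt (2 * v.natAbs) n with h | h
    · left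
      refine ⟨h, ?_⟩
      have h5 : (z * 2).valMinAbs = 2 * v := by
        refine (ZMod.valMinAbs_spec (z * 2) (2 * v)).2 ⟨?_, ?_, ?_⟩
        · push_cast; rw [hcoe, mul_comm]
        · have : (p : ℤ) = 2 * n + 1 := by exact_mod_cast h3.symm
          rcases Int.natAbs_eq v with h' | h' <;> omega
        · have : (p : ℤ) = 2 * n + 1 := by exact_mod_cast h3.symm
          rcases Int.natAbs_eq v with h' | h' <;> omega
      rw [hcx2, h5, mul_pow, ← hu, mul_pow]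
    · right
      refine ⟨h, ?_⟩
      have hpn : (p : ℤ) = 2 * n + 1 := by exact_mod_cast h3.symm
      rcases Int.natAbs_eq v with h' | h'
      · have h5 : (z * 2).valMinAbs = 2 * v - p := by
          refine (ZMod.valMinAbs_spec (z * 2) (2 * v - p)).2 ⟨?_, ?_, ?_⟩
          · push_cast; rw [hcoe]; simp [mul_comm]
          · omega
          · omega
        rw [hcx2, h5, ← h']; ring
      · have h5 : (z * 2).valMinAbs = 2 * v + p := by
          refine (ZMod.valMinAbs_spec (z * 2) (2 * v + p)).2 ⟨?_, ?_, ?_⟩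
          · push_cast; rw [hcoe]; simp [mul_comm]
          · omega
          · omega
        have h6 : ((v.natAbs : ℕ) : ℤ) = - v := by omega
        rw [hcx2, h5, h6]; ring
  obtain ⟨u, hu1, hun, hu2, hu3⟩ := key a haS
  obtain ⟨w, hw1, hwn, hw2, hw3⟩ := key b hbS
  have e1 := hN 1 (mem_Ico.2 ⟨le_rfl, by omega⟩)
  have e2 := hN 2 (mem_Ico.2 ⟨by omega, by omega⟩)
  rw [hu2, hw2] at e1
  have hpn : (p : ℤ) = 2 * n + 1 := by exact_mod_cast h3.symm
  push_cast at e1 e2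
  have hn5 : n ≤ 5 := by
    rcases hu3 with ⟨h1, h2⟩ | ⟨h1, -⟩
    · rcases hw3 with ⟨h3, h4⟩ | ⟨h3, -⟩
      · rw [h2, h4] at e2
        exfalso
        nlinarith
      · have h3' : (n : ℤ) + 1 ≤ 2 * w := by exact_mod_cast h3
        have hu1' : (1 : ℤ) ≤ u := by exact_mod_cast hu1
        by_contra hlt
        have hlt' : (6 : ℤ) ≤ n := by exact_mod_cast (not_le.1 hlt)
        nlinarith
    · have h1' : (n : ℤ) + 1 ≤ 2 * u := by exact_mod_cast h1
      have hw1' : (1 : ℤ) ≤ w := by exact_mod_cast hw1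
      by_contra hlt
      have hlt' : (6 : ℤ) ≤ n := by exact_mod_cast (not_le.1 hlt)
      nlinarith
  rw [hpn] at e1
  have e1' : 1 + (u ^ 2 + w ^ 2) = 2 * n + 1 := by
    have : (1 : ℤ) + ((u : ℤ) ^ 2 + w ^ 2) = 2 * n + 1 := by linarith
    exact_mod_cast this
  clear_value n
  interval_cases n
  · interval_cases u <;> interval_cases w <;> omega
  · interval_cases u <;> interval_cases w <;> omega
  · have : p = 9 := by omega
    rw [this] at hp
    exact absurd hp.1 (by decide)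
  · rcases hu3 with ⟨h1, h2⟩ | ⟨h1, h2⟩ <;> rcases hw3 with ⟨h3, h4⟩ | ⟨h3, h4⟩ <;> rw [h2, h4, hpn] at e2 <;>
      interval_cases u <;> interval_cases w <;> omega

end Cfsg.Agent.H703.Lat
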