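import Mathlib
import Cfsg.Agent.H703.Lat.ModP

/-!
# Small numbers of characters of degree prime to `p`

* `dvd_card_two` : for `p = 2` the number is even, and divisible by `4` if `4 ∣ |G|`;
* `nine` : for `p = 3` and `9 ∣ |G|` the number is not `3`.
-/

set_option autoImplicit false
set_option linter.unusedSectionVars false

open Cfsg Finset
open scoped ComplexConjugate

namespace Cfsg.Agent.H703.Lat

open Cfsg.Agent.Characters.Core Cfsg.Agent.Blocks Cfsg.Agent.Blocks.Basic Cfsg.Agent.Blocks.LocalRing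

universe u

variable {G : Type u} [Group G] [Finite G] {M : Ideal AlgInt} {B : Finset (IrrCharacter G)}

/-- The members of `B` of degree divisible by `p`. -/
noncomputable def T (p : ℕ) (B : Finset (IrrCharacter G)) : Finset (IrrCharacter G) :=
  B.filter fun χ : IrrCharacter G => p ∣ charDegree (χ : G → ℂ)

theorem sum_split (p : ℕ) (f : IrrCharacter G → ℤ) : ∑ χ ∈ B, f χ =
    ∑ χ ∈ S p B, f χ + ∑ χ ∈ T p B, f χ := by
  rw [S, T, add_comm, sum_filter_add_sum_filter_not]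

/-- for `p = 2` -/
theorem dvd_card_two (hM : IsPModular 2 M) (hB : Good M B) (h2 : 2 ∣ Nat.card G) : 2 ∣ (S 2 B).card := by
  have h1 := dvd_sum_sq hM hB (a := 1) (by rwa [pow_one])
  rw [sum_split 2] at h1
  have h3 : (2 : ℤ) ∣ ∑ χ ∈ T 2 B, (charDegree (χ : G → ℂ) : ℤ) ^ 2 := by
    refine dvd_sum fun χ hχ => ?_
    have := (mem_filter.1 hχ).2
    rw [sq]
    exact Dvd.dvd.mul_right (by exact_mod_cast this) _
  have h4 : (2 : ℤ) ∣ ∑ χ ∈ S 2 B, (charDegree (χ : G → ℂ) : ℤ) ^ 2 :=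
    (dvd_add_left h3).1 (by simpa using h1)
  have h5 : (2 : ℤ) ∣ ∑ χ ∈ S 2 B, ((charDegree (χ : G → ℂ) : ℤ) ^ 2 - 1) := by
    refine dvd_sum fun χ hχ => ?_
    have h6 := (mem_S.1 hχ).2
    obtain ⟨k, hk⟩ : Odd (charDegree (χ : G → ℂ)) := by
      rw [← Nat.not_even_iff_odd, even_iff_two_dvd]; exact h6
    rw [hk]
    exact ⟨2 * k ^ 2 + 2 * k, by push_cast; ring⟩
  rw [sum_sub_distrib, sum_const, nsmul_eq_mul, mul_one] at h5
  have h7 := (dvd_sub_right h4).1 h5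
  exact_mod_cast h7

/-- for `p = 2` and `4 ∣ |G|` -/
theorem four_dvd_card (hM : IsPModular 2 M) (hB : Good M B) (h4G : 4 ∣ Nat.card G) : 4 ∣ (S 2 B).card := by
  have h1 := dvd_sum_sq hM hB (a := 2) (by simpa using h4G)
  rw [sum_split 2] at h1
  have h3 : (4 : ℤ) ∣ ∑ χ ∈ T 2 B, (charDegree (χ : G → ℂ) : ℤ) ^ 2 := by
    refine dvd_sum fun χ hχ => ?_
    obtain ⟨k, hk⟩ := (mem_filter.1 hχ).2
    rw [hk]
    exact ⟨k ^ 2, by push_cast; ring⟩
  have h4 : (4 : ℤ) ∣ ∑ χ ∈ S 2 B, (charDegree (χ : G → ℂ) : ℤ) ^ 2 :=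
    (dvd_add_left h3).1 (by simpa using h1)
  have h5 : (4 : ℤ) ∣ ∑ χ ∈ S 2 B, ((charDegree (χ : G → ℂ) : ℤ) ^ 2 - 1) := by
    refine dvd_sum fun χ hχ => ?_
    have h6 := (mem_S.1 hχ).2
    obtain ⟨k, hk⟩ : Odd (charDegree (χ : G → ℂ)) := by
      rw [← Nat.not_even_iff_odd, even_iff_two_dvd]; exact h6
    rw [hk]
    exact ⟨k ^ 2 + k, by push_cast; ring⟩
  rw [sum_sub_distrib, sum_const, nsmul_eq_mul, mul_one] at h5
  have h7 := (dvd_sub_right h4).1 h5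
  exact_mod_cast h7

/-- for `p = 3` and `9 ∣ |G|` there are not exactly three characters of degree prime to `3` -/
theorem nine (hM : IsPModular 3 M) (hB : Good M B) (h1B : one G ∈ B) (h9 : 9 ∣ Nat.card G) :
    (S 3 B).card ≠ 3 := by
  intro h3S
  have : Fact (Nat.Prime 3) := ⟨Nat.prime_three⟩
  have h3G : 3 ∣ Nat.card G := (by norm_num : 3 ∣ 9).trans h9
  obtain ⟨F, hF⟩ := exists_Fx hM hB h3G 1
  have hx : (1 : ℕ) ∈ Ico 1 (3 / 2).succ := by simp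
  have hN := N_eq hM hB h3G h1B (by norm_num) h3S hx
  rw [← sum_S] at hN
  have hc1 : cx 3 1 (one G) = ((1 : ℕ) : ℤ) := cx_one (by norm_num)
  have hFF := lattice_eq (by norm_num) h1B hF (by rw [hN]; exact congrArg _ hc1.symm) 1
  have hF1 := F_one hF
  have hsq := dvd_sum_sq hM hB (a := 2) (by simpa using h9)
  -- `D χ = cx χ · χ(1) ≡ 1 mod 3`
  have hD : ∀ χ ∈ S 3 B, ∃ t : ℤ, cx 3 1 χ * charDegree (χ : G → ℂ) = 1 + 3 * t ∧
      (charDegree (χ : G → ℂ) : ℤ) ^ 2 = (1 + 3 * t) ^ 2 := by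
    intro χ hχ
    have h1 := (mem_S.1 hχ).2
    have h2 := dvd_cx (p := 3) 1 χ
    have h3 : cx 3 1 χ = 1 ∨ cx 3 1 χ = -1 := by
      have h4 : (cx 3 1 χ).natAbs ≤ 3 / 2 := ZMod.natAbs_valMinAbs_le _
      have h5 : cx 3 1 χ ≠ 0 := by
        intro h0
        rw [h0] at h2
        apply h1
        have : (3 : ℤ) ∣ charDegree (χ : G → ℂ) := by
          have := (dvd_neg.2 h2)
          simpa using this
        exact_mod_cast this
      omega
    have h4 : (cx 3 1 χ) ^ 2 = 1 := by rcases h3 with h | h <;> rw [h] <;> norm_num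
    obtain ⟨t, ht⟩ : (3 : ℤ) ∣ cx 3 1 χ * charDegree (χ : G → ℂ) - 1 := by
      have h5 : (3 : ℤ) ∣ (cx 3 1 χ) * (cx 3 1 χ - (1 : ℕ) * charDegree (χ : G → ℂ)) :=
        Dvd.dvd.mul_left (by simpa using h2) _
      have h6 : (cx 3 1 χ) * (cx 3 1 χ - (1 : ℕ) * charDegree (χ : G → ℂ)) =
          - (cx 3 1 χ * charDegree (χ : G → ℂ) - 1) := by
        push_cast
        linear_combination h4
      rw [h6, dvd_neg] at h5
      exact h5
    refine ⟨t, by linarith, ?_⟩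
    have h7 : cx 3 1 χ * charDegree (χ : G → ℂ) = 1 + 3 * t := by linarith
    rw [← h7, mul_pow, h4, one_mul]
  choose! t ht1 ht2 using hD
  have e1 : ∑ χ ∈ B, cx 3 1 χ * charDegree (χ : G → ℂ) = 3 + 3 * ∑ χ ∈ S 3 B, t χ := by
    rw [sum_split 3, sum_congr rfl ht1, sum_add_distrib, sum_const, h3S, ← mul_sum]
    have : ∑ χ ∈ T 3 B, cx 3 1 χ * (charDegree (χ : G → ℂ) : ℤ) = 0 :=
      sum_eq_zero fun χ hχ => by rw [cx_of_dvd (mem_filter.1 hχ).2, zero_mul]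
    rw [this]
    simp
  have e2 : (9 : ℤ) ∣ 3 + 6 * ∑ χ ∈ S 3 B, t χ := by
    rw [sum_split 3, sum_congr rfl ht2] at hsq
    have h3 : (9 : ℤ) ∣ ∑ χ ∈ T 3 B, (charDegree (χ : G → ℂ) : ℤ) ^ 2 := by
      refine dvd_sum fun χ hχ => ?_
      obtain ⟨k, hk⟩ := (mem_filter.1 hχ).2
      rw [hk]
      exact ⟨k ^ 2, by push_cast; ring⟩
    have h4 : (9 : ℤ) ∣ ∑ χ ∈ S 3 B, (1 + 3 * t χ) ^ 2 := (dvd_add_left h3).1 (by simpa using hsq)
    have h5 : ∑ χ ∈ S 3 B, (1 + 3 * t χ) ^ 2 = (3 + 6 * ∑ χ ∈ S 3 B, t χ) + 9 * ∑ χ ∈ S 3 B, (t χ) ^ 2 := by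
      rw [sum_congr rfl fun χ _ => (by ring : (1 + 3 * t χ) ^ 2 = 1 + 6 * t χ + 9 * (t χ) ^ 2),
        sum_add_distrib, sum_add_distrib, sum_const, h3S, ← mul_sum, ← mul_sum]
      simp
    rw [h5] at h4
    exact (dvd_add_left (Dvd.intro _ rfl)).1 h4
  rw [e1] at hF1
  have hF01 : F 1 = 0 ∨ F 1 = 1 := by
    have : F 1 * (F 1 - 1) = 0 := by linear_combination hFF
    rcases mul_eq_zero.1 this with h | h
    · exact Or.inl h
    · exact Or.inr (by linarith)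
  push_cast at hF1
  rcases hF01 with h | h <;> rw [h] at hF1 <;> omega

end Cfsg.Agent.H703.Lat
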